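import Mathlib

/-! helper7: an explicit criterion for `R₀[X]/(F)` to be formally unramified, and the converse
extraction of such relations from a formally unramified algebra with chosen generators. -/

set_option linter.style.haveILetI false
set_option linter.unusedVariables false
set_option linter.unusedSectionVars false

universe u v w

namespace Groth.Agent.Helper7.UnrDesc

open MvPolynomial KaehlerDifferential

/-- Criterion: `R₀[X]/(F)` is formally unramified as soon as for every variable `i` some relation
`F (a i)` has gradient congruent to the `i`-th unit vector modulo `(F)`. -/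
theorem formallyUnramified_quotient {R₀ : Type u} [CommRing R₀] {ι : Type v} {σ : Type w}
    [Fintype ι] [DecidableEq ι]
    (F : σ → MvPolynomial ι R₀) (a : ι → σ)
    (h : ∀ i k, (C (if i = k then (1 : R₀) else 0) : MvPolynomial ι R₀) - pderiv k (F (a i)) ∈
      Ideal.span (Set.range F)) :
    Algebra.FormallyUnramified R₀ (MvPolynomial ι R₀ ⧸ Ideal.span (Set.range F)) := by
  set I := Ideal.span (Set.range F) with hI
  let S₀ := MvPolynomial ι R₀ ⧸ I
  let mk : MvPolynomial ι R₀ →+* S₀ := Ideal.Quotient.mk I
  have key : ∀ p : MvPolynomial ι R₀,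
      D R₀ S₀ (mk p) = ∑ k, mk (pderiv k p) • D R₀ S₀ (mk (X k)) := by
    intro p
    have h1 : D R₀ (MvPolynomial ι R₀) p =
        ∑ k, pderiv k p • D R₀ (MvPolynomial ι R₀) (X k) := by
      have := (mvPolynomialBasis R₀ ι).sum_repr (D R₀ (MvPolynomial ι R₀) p)
      simpa only [mvPolynomialBasis_repr_apply, mvPolynomialBasis_apply] using this.symm
    have h2 : D R₀ S₀ (mk p) =
        KaehlerDifferential.map R₀ R₀ (MvPolynomial ι R₀) S₀ (D R₀ (MvPolynomial ι R₀) p) :=
      (KaehlerDifferential.map_D R₀ R₀ (MvPolynomial ι R₀) S₀ p).symm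
    rw [h2, h1, map_sum]
    refine Finset.sum_congr rfl fun k _ => ?_
    rw [LinearMap.map_smul, KaehlerDifferential.map_D]
    rw [← algebraMap_smul S₀ (pderiv k p)]
    rfl
  have hX : ∀ i, D R₀ S₀ (mk (X i)) = 0 := by
    intro i
    have h0 : mk (F (a i)) = 0 :=
      Ideal.Quotient.eq_zero_iff_mem.mpr (Ideal.subset_span ⟨a i, rfl⟩)
    have h1 := key (F (a i))
    rw [h0, map_zero] at h1
    have h2 : ∀ k, mk (pderiv k (F (a i))) = if i = k then 1 else 0 := by
      intro k
      have := Ideal.Quotient.eq_zero_iff_mem.mpr (h i k)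
      rw [map_sub, sub_eq_zero] at this
      rw [← this]
      show mk (C _) = _
      split_ifs <;> simp
    rw [Finset.sum_eq_single i] at h1
    · rw [h2 i, if_pos rfl] at h1
      exact (h1.trans (one_smul S₀ (D R₀ S₀ (mk (X i))))).symm
    · intro k _ hk
      rw [h2 k, if_neg (Ne.symm hk)]
      exact zero_smul S₀ (D R₀ S₀ (mk (X k)))
    · intro hi
      exact absurd (Finset.mem_univ i) hi
  have hD : ∀ s : S₀, D R₀ S₀ s = 0 := by
    intro s
    obtain ⟨p, rfl⟩ := Ideal.Quotient.mk_surjective s
    have := key p
    simp only [hX, smul_zero, Finset.sum_const_zero] at this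
    exact this
  constructor
  have htop := KaehlerDifferential.span_range_derivation R₀ S₀
  have hbot : Submodule.span S₀ (Set.range (D R₀ S₀)) = ⊥ := by
    rw [Submodule.span_eq_bot]
    rintro _ ⟨s, rfl⟩
    exact hD s
  rw [hbot] at htop
  exact (Submodule.subsingleton_iff S₀).mp (subsingleton_of_bot_eq_top htop)

/-- If `S` is formally unramified over `R` with generators `P`, then for every variable there is a
relation whose gradient is the corresponding unit vector modulo the kernel. -/
theorem exists_relations {R S : Type u} [CommRing R] [CommRing S] [Algebra R S]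
    [Algebra.FormallyUnramified R S] {ι : Type v} [DecidableEq ι]
    (P : Algebra.Generators R S ι) :
    ∃ f : ι → MvPolynomial ι R, (∀ i, aeval P.val (f i) = 0) ∧
      ∀ i k, aeval P.val ((C (if i = k then (1 : R) else 0) : MvPolynomial ι R) -
        pderiv k (f i)) = 0 := by
  have hex := P.toExtension.exact_cotangentComplex_toKaehler
  have hc : ∀ i : ι, ∃ c : P.toExtension.Cotangent,
      P.toExtension.cotangentComplex c = (1 : S) ⊗ₜ[P.Ring] D R P.Ring (X i) := by
    intro i
    exact (hex _).mp (Subsingleton.elim _ _)
  choose c hc using hc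
  have hf : ∀ i, ∃ x : P.toExtension.ker, Algebra.Extension.Cotangent.mk x = c i :=
    fun i => Algebra.Extension.Cotangent.mk_surjective (c i)
  choose x hx using hf
  refine ⟨fun i => ((x i).1 : MvPolynomial ι R), fun i => ?_, fun i k => ?_⟩
  · exact P.aeval_val_eq_zero (x i).2
  · have h1 := hc i
    rw [← hx i, Algebra.Extension.cotangentComplex_mk] at h1
    have h2 := congrArg (fun t => P.cotangentSpaceBasis.repr t k) h1
    have h3 := P.cotangentSpaceBasis_repr_one_tmul ((x i).1) k
    have h4 := P.cotangentSpaceBasis_repr_one_tmul (X i) k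
    have h5 : aeval P.val (pderiv k ((x i).1 : MvPolynomial ι R)) =
        aeval P.val (pderiv k (X i : MvPolynomial ι R)) := h3.symm.trans (h2.trans h4)
    rw [map_sub, h5, sub_eq_zero]
    congr 1
    rw [pderiv_X]
    by_cases hik : i = k
    · subst hik; simp
    · rw [if_neg hik, Pi.single_apply, if_neg hik]; simp

end Groth.Agent.Helper7.UnrDesc
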