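import Mathlib
import Groth.Agent.Lib.Helper7.UnrDesc.Crit

/-! helper7: descent of (formally) unramified finitely presented / finite type algebras to a
finite type algebra over the integers, using the core of a presentation. -/

set_option linter.style.haveILetI false
set_option linter.unusedVariables false
set_option linter.unusedSectionVars false

universe u

namespace Groth.Agent.Helper7.UnrDesc

open MvPolynomial TensorProduct

theorem exists_model {R : Type u} [CommRing R] {ι σ : Type} [Fintype ι] [DecidableEq ι] [Finite σ]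
    (F : σ → MvPolynomial ι R) (a : ι → σ) (b : ι → ι → σ)
    (hb : ∀ i k, F (b i k) =
      (C (if i = k then (1 : R) else 0) : MvPolynomial ι R) - pderiv k (F (a i))) :
    ∃ (R₀ : Type u) (_ : CommRing R₀) (_ : Algebra.FiniteType ℤ R₀) (S₀ : Type u) (_ : CommRing S₀)
      (_ : Algebra R₀ S₀) (_ : Algebra.FinitePresentation R₀ S₀)
      (_ : Algebra.FormallyUnramified R₀ S₀)
      (_ : Algebra R₀ R),
      Nonempty (R ⊗[R₀] S₀ ≃ₐ[R] MvPolynomial ι R ⧸ Ideal.span (Set.range F)) := by
  let P : Algebra.Presentation R (MvPolynomial ι R ⧸ Ideal.span (Set.range F)) ι σ :=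
    Algebra.Presentation.naive
  let F₀ : σ → MvPolynomial ι P.Core := P.relationOfHasCoeffs P.Core
  have hmap : ∀ r, MvPolynomial.map (algebraMap P.Core R) (F₀ r) = F r := fun r =>
    P.map_relationOfHasCoeffs P.Core r
  have inj : Function.Injective (MvPolynomial.map (σ := ι) (algebraMap P.Core R)) :=
    MvPolynomial.map_injective _ (FaithfulSMul.algebraMap_injective P.Core R)
  have hb₀ : ∀ i k, F₀ (b i k) =
      (C (if i = k then (1 : P.Core) else 0) : MvPolynomial ι P.Core) - pderiv k (F₀ (a i)) := by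
    intro i k
    apply inj
    rw [map_sub, MvPolynomial.map_C, ← pderiv_map, hmap, hmap, hb]
    congr 2
    split_ifs <;> simp
  have hunr : Algebra.FormallyUnramified P.Core (P.ModelOfHasCoeffs P.Core) :=
    formallyUnramified_quotient F₀ a (fun i k => by
      rw [← hb₀]; exact Ideal.subset_span ⟨_, rfl⟩)
  exact ⟨P.Core, inferInstance, inferInstance, P.ModelOfHasCoeffs P.Core, inferInstance,
    inferInstance, inferInstance, hunr, inferInstance, ⟨P.tensorModelOfHasCoeffsEquiv P.Core⟩⟩

/-- The family of relations used for descent: the chosen relations `f i` and the differences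
`δ_ik - ∂_k f_i`. -/
noncomputable def relFam {R : Type u} [CommRing R] {n : ℕ} (f : Fin n → MvPolynomial (Fin n) R) :
    Fin n ⊕ Fin n × Fin n → MvPolynomial (Fin n) R :=
  Sum.elim f (fun ik => (C (if ik.1 = ik.2 then (1 : R) else 0) : MvPolynomial (Fin n) R) -
    pderiv ik.2 (f ik.1))

theorem main9474 (R : Type u) [CommRing R] (S : Type u)
    [CommRing S] [Algebra R S] [Algebra.Unramified R S] :
    ∃ (R₀ : Type u) (_ : CommRing R₀) (_ : Algebra.FiniteType ℤ R₀) (S₀ : Type u) (_ : CommRing S₀)
      (_ : Algebra R₀ S₀) (_ : Algebra.Unramified R₀ S₀) (_ : Algebra R₀ R)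
      (ψ : R ⊗[R₀] S₀ →ₐ[R] S), Function.Surjective ψ := by
  obtain ⟨n, π, hπ⟩ := Algebra.FiniteType.iff_quotient_mvPolynomial''.mp
    (inferInstance : Algebra.FiniteType R S)
  let P : Algebra.Generators R S (Fin n) := Algebra.Generators.ofAlgHom π hπ
  obtain ⟨f, hf0, hfk⟩ := exists_relations P
  let F := relFam f
  have hF : ∀ r, aeval P.val (F r) = 0 := by
    rintro (i | ⟨i, k⟩)
    · exact hf0 i
    · exact hfk i k
  obtain ⟨R₀, _, hft, S₀, _, _, hfp, hunr, _, ⟨e⟩⟩ :=
    exists_model F (fun i => Sum.inl i) (fun i k => Sum.inr (i, k)) (fun i k => rfl)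
  let q : (MvPolynomial (Fin n) R ⧸ Ideal.span (Set.range F)) →ₐ[R] S :=
    Ideal.Quotient.liftₐ _ (aeval P.val) (by
      intro x hx
      have hle : Ideal.span (Set.range F) ≤ RingHom.ker (aeval P.val : _ →ₐ[R] S) := by
        rw [Ideal.span_le]
        rintro _ ⟨r, rfl⟩
        exact hF r
      exact hle hx)
  have hq : Function.Surjective q := by
    intro s
    obtain ⟨p, rfl⟩ := P.aeval_val_surjective s
    exact ⟨Ideal.Quotient.mk _ p, rfl⟩
  haveI : Algebra.Unramified R₀ S₀ := { }
  exact ⟨R₀, inferInstance, hft, S₀, inferInstance, inferInstance, inferInstance, inferInstance,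
    q.comp e.toAlgHom, hq.comp e.surjective⟩

theorem main12085 (R : Type u) [CommRing R] (S : Type u) [CommRing S]
    [Algebra R S] [Algebra.FinitePresentation R S] [Algebra.FormallyUnramified R S] :
    ∃ (R₀ : Type u) (_ : CommRing R₀) (_ : Algebra.FiniteType ℤ R₀) (S₀ : Type u) (_ : CommRing S₀)
      (_ : Algebra R₀ S₀) (_ : Algebra.FinitePresentation R₀ S₀)
      (_ : Algebra.FormallyUnramified R₀ S₀)
      (_ : Algebra R₀ R), Nonempty (R ⊗[R₀] S₀ ≃ₐ[R] S) := by
  obtain ⟨n, π, hπ⟩ := Algebra.FiniteType.iff_quotient_mvPolynomial''.mp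
    (inferInstance : Algebra.FiniteType R S)
  let P : Algebra.Generators R S (Fin n) := Algebra.Generators.ofAlgHom π hπ
  obtain ⟨f, hf0, hfk⟩ := exists_relations P
  obtain ⟨m, g, hg⟩ := Submodule.fg_iff_exists_fin_generating_family.mp
    P.fg_ker_of_finitePresentation
  let F : Fin m ⊕ (Fin n ⊕ Fin n × Fin n) → MvPolynomial (Fin n) R := Sum.elim g (relFam f)
  have hker : P.ker = RingHom.ker (aeval P.val : MvPolynomial (Fin n) R →ₐ[R] S) :=
    P.ker_eq_ker_aeval_val
  have hg' : ∀ j, aeval P.val (g j) = 0 := by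
    intro j
    have : g j ∈ P.ker := by
      rw [← hg]; exact Submodule.subset_span ⟨j, rfl⟩
    exact P.aeval_val_eq_zero this
  have hF : ∀ r, aeval P.val (F r) = 0 := by
    rintro (j | i | ⟨i, k⟩)
    · exact hg' j
    · exact hf0 i
    · exact hfk i k
  have hspan : Ideal.span (Set.range F) =
      RingHom.ker (aeval P.val : MvPolynomial (Fin n) R →ₐ[R] S) := by
    apply le_antisymm
    · rw [Ideal.span_le]
      rintro _ ⟨r, rfl⟩
      exact hF r
    · rw [← hker]
      have : P.ker = Ideal.span (Set.range g) := hg.symm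
      rw [this]
      apply Ideal.span_mono
      rintro _ ⟨j, rfl⟩
      exact ⟨Sum.inl j, rfl⟩
  obtain ⟨R₀, _, hft, S₀, _, _, hfp, hunr, _, ⟨e⟩⟩ :=
    exists_model F (fun i => Sum.inr (Sum.inl i)) (fun i k => Sum.inr (Sum.inr (i, k)))
      (fun i k => rfl)
  refine ⟨R₀, inferInstance, hft, S₀, inferInstance, inferInstance, hfp, hunr, inferInstance, ⟨?_⟩⟩
  exact (e.trans (Ideal.quotientEquivAlgOfEq R hspan)).trans
    (Ideal.quotientKerAlgEquivOfSurjective P.aeval_val_surjective)

end Groth.Agent.Helper7.UnrDesc
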